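import Groth.Agent.Lib.PPGen.DiffBasic

/-! # Existence and uniqueness of the canonical maps between sheaves of differentials -/

set_option autoImplicit false
set_option linter.style.haveILetI false
set_option backward.isDefEq.respectTransparency false

universe u

open CategoryTheory AlgebraicGeometry Opposite

noncomputable section

namespace GrothLib.OmegaLocal4

variable {X S X' S' : Scheme.{u}} {f : X ⟶ S} {f' : X' ⟶ S'} (h : X' ⟶ X) (b : S' ⟶ S)
  (hsq : f' ≫ b = h ≫ f)

include hsq in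
theorem app_base {Ω' : X'.Modules} (d' : OmegaSh.Der f' Ω') (V : S.Opens) (c : Γ(S, V)) :
    d'.app (h ⁻¹ᵁ (f ⁻¹ᵁ V)) (h.app (f ⁻¹ᵁ V) (f.app V c)) = 0 := by
  have key : ∀ (k : X' ⟶ S), k = f' ≫ b → d'.app (k ⁻¹ᵁ V) (k.app V c) = 0 := by
    rintro k rfl
    exact d'.d_app (X := op (b ⁻¹ᵁ V)) (b.app V c)
  exact key (h ≫ f) hsq.symm

/-- Push a derivation forward along a square. -/
def pushDer {Ω' : X'.Modules} (d' : OmegaSh.Der f' Ω') :
    OmegaSh.Der f ((Scheme.Modules.pushforward h).obj Ω') where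
  d {U} := (d'.app (h ⁻¹ᵁ U.unop)).comp (h.app U.unop).hom.toAddMonoidHom
  d_mul {U} s t := by
    refine (congrArg (d'.app (h ⁻¹ᵁ U.unop)) (map_mul (h.app U.unop).hom s t)).trans ?_
    exact d'.d_mul (X := op (h ⁻¹ᵁ U.unop)) (h.app U.unop s) (h.app U.unop t)
  d_map {U V} i s := by
    refine (congrArg (d'.app (h ⁻¹ᵁ V.unop))
      (congr($(h.naturality i) s) : h.app V.unop (X.presheaf.map i s) = _)).trans ?_
    exact d'.d_map ((TopologicalSpace.Opens.map h.base).map i.unop).op (h.app U.unop s)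
  d_app {V} c := app_base h b hsq d' V.unop c

include b hsq in
theorem existsUnique_compat {Ω : X.Modules} (d : OmegaSh.Der f Ω) (hd : OmegaSh.IsUniversal d)
    {Ω' : X'.Modules} (d' : OmegaSh.Der f' Ω') :
    ∃! c : (Scheme.Modules.pullback h).obj Ω ⟶ Ω', OmegaSh.IsDiffCompat h d d' c := by
  let adj := Scheme.Modules.pullbackPushforwardAdjunction h
  obtain ⟨α, hα, -⟩ := hd _ (pushDer h b hsq d')
  have hα' : ∀ (U : X.Opens) (s : Γ(X, U)),
      α.app U (d.app U s) = d'.app (h ⁻¹ᵁ U) (h.app U s) := fun U s =>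
    PresheafOfModules.Derivation.congr_d hα (X := op U) s
  refine ⟨(adj.homEquiv _ _).symm α, fun U s => ?_, fun c hc => ?_⟩
  · refine (congr($(adj.homEquiv_unit _ _ ((adj.homEquiv _ _).symm α)).app U (d.app U s))).symm.trans ?_
    rw [Equiv.apply_symm_apply]
    exact hα' U s
  · apply (adj.homEquiv _ _).injective
    rw [Equiv.apply_symm_apply]
    refine PPGen.hom_ext_universal hd _ _ fun U s => ?_
    exact (congr($(adj.homEquiv_unit _ _ c).app U (d.app U s))).trans ((hc U s).trans (hα' U s).symm)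

end GrothLib.OmegaLocal4
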