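import Groth.Agent.Lib.OmegaLocal4.Compat
import Groth.Agent.Lib.PPGen.EtaleSquare
import Groth.Agent.S5005
import Groth.Agent.S2157
import Groth.Agent.Lib.QCoh.FT
import Groth.Agent.Lib.FlatFP.Kernel
import Groth.Prelude.Def_Omega4
import Mathlib

/-! # Sheaves of differentials on affine charts, for arbitrary morphisms -/

set_option autoImplicit false
set_option linter.style.haveILetI false
set_option backward.isDefEq.respectTransparency false

universe u

open CategoryTheory AlgebraicGeometry Opposite TopologicalSpace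

noncomputable section

namespace GrothLib.OmegaLocal4

variable {X S : Scheme.{u}} {f : X ⟶ S} {Ω : X.Modules} {d : OmegaSh.Der f Ω}

/-- On an affine chart a sheaf of differentials is the tilde of the Kaehler differentials. -/
theorem nonempty_restrict_iso (hd : OmegaSh.IsUniversal d) {U : X.Opens} {V : S.Opens}
    (hU : IsAffineOpen U) (hV : IsAffineOpen V) (e : U ≤ f ⁻¹ᵁ V) :
    letI := (f.appLE V U e).hom.toAlgebra
    Nonempty (Ω.restrict hU.fromSpec ≅
      tilde (R := CommRingCat.of Γ(X, U)) (ModuleCat.of Γ(X, U) (KaehlerDifferential Γ(S, V) Γ(X, U)))) := by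
  letI := (f.appLE V U e).hom.toAlgebra
  haveI : QuasiSeparated (Spec.map (f.appLE V U e)) := inferInstance
  have hd₂ : OmegaSh.IsUniversal (OmegaSh.dOmega (Spec.map (f.appLE V U e))) :=
    Groth.Agent.S5005.result _
  have hsq : hU.fromSpec ≫ f = Spec.map (f.appLE V U e) ≫ hV.fromSpec :=
    (IsAffineOpen.SpecMap_appLE_fromSpec f hV hU e).symm
  obtain ⟨c, hc, -⟩ := existsUnique_compat hU.fromSpec hV.fromSpec hsq.symm d hd
    (OmegaSh.dOmega (Spec.map (f.appLE V U e)))
  haveI : IsIso c :=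
    PPGen.isIso_of_etale_square f (Spec.map (f.appLE V U e)) hU.fromSpec hV.fromSpec hsq hd hd₂ c hc
  obtain ⟨e₃⟩ := Groth.Agent.S2157.result Γ(S, V) Γ(X, U)
  exact ⟨(Scheme.Modules.restrictFunctorIsoPullback hU.fromSpec).app Ω ≪≫ asIso c ≪≫ e₃⟩

/-- A sheaf of differentials is quasi-coherent. -/
theorem isQuasicoherent (hd : OmegaSh.IsUniversal d) : Ω.IsQuasicoherent := by
  have hc : ∀ x : X, ∃ (U : X.Opens) (V : S.Opens), IsAffineOpen U ∧ IsAffineOpen V ∧ x ∈ U ∧ U ≤ f ⁻¹ᵁ V := by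
    intro x
    obtain ⟨V, hV, hxV, -⟩ := exists_isAffineOpen_mem_and_subset (x := f.base x) (U := ⊤) trivial
    obtain ⟨U, hU, hxU, hUV⟩ := exists_isAffineOpen_mem_and_subset (x := x) (U := f ⁻¹ᵁ V) hxV
    exact ⟨U, V, hU, hV, hxU, hUV⟩
  choose U V hU hV hxU hUV using hc
  refine QCoh.isQuasicoherent_of_restrict Ω U
    (IsOpenCover.mk (eq_top_iff.mpr fun x _ => Opens.mem_iSup.mpr ⟨x, hxU x⟩)) fun i => ?_
  letI := (f.appLE (V i) (U i) (hUV i)).hom.toAlgebra
  obtain ⟨e⟩ := nonempty_restrict_iso hd (hU i) (hV i) (hUV i)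
  haveI : (Ω.restrict (hU i).fromSpec).IsQuasicoherent := QCoh.isQuasicoherent_of_iso e.symm
  refine (SheafOfModules.isQuasicoherent (U i : Scheme.{u}).ringCatSheaf).prop_of_iso
    (((Scheme.Modules.restrictFunctorComp (hU i).isoSpec.hom (hU i).fromSpec).symm.app Ω) ≪≫
      (Scheme.Modules.restrictFunctorCongr (hU i).isoSpec_hom_fromSpec).app Ω) ?_
  exact inferInstanceAs ((Ω.restrict (hU i).fromSpec).restrict (hU i).isoSpec.hom).IsQuasicoherent

/-- Sections of a sheaf of differentials on affine opens. -/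
theorem nonempty_sections (hd : OmegaSh.IsUniversal d) {U : X.Opens} {V : S.Opens}
    (hU : IsAffineOpen U) (hV : IsAffineOpen V) (e : U ≤ f ⁻¹ᵁ V) :
    letI := (f.appLE V U e).hom.toAlgebra
    Nonempty (Γ(Ω, U) ≃ₗ[Γ(X, U)] KaehlerDifferential Γ(S, V) Γ(X, U)) := by
  letI := (f.appLE V U e).hom.toAlgebra
  obtain ⟨i⟩ := nonempty_restrict_iso hd hU hV e
  exact ⟨(QCoh.topLinearEquiv hU Ω).symm.trans
    (((moduleSpecΓFunctor (R := CommRingCat.of Γ(X, U))).mapIso i ≪≫
      (tilde.toTildeΓNatIso.app _).symm).toLinearEquiv)⟩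

end GrothLib.OmegaLocal4
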